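import Cfsg.Agent.Lib.Spor.PSLFourThree.JCase.Class
import Cfsg.Agent.Lib.Spor.PSLFourThree.XB.Facts

/-!
Two by two matrices realising `3³ : S₄`.
-/

set_option autoImplicit false
set_option maxRecDepth 100000
set_option synthInstance.maxSize 4096
set_option synthInstance.maxHeartbeats 400000

namespace Cfsg.Agent.Spor.PSLFourThree.BModel

open Cfsg.Agent.Solv.Special Cfsg.Agent.Solv.Special.W648

/-- Two by two matrices. -/
abbrev M2 := Matrix (Fin 2) (Fin 2) (ZMod 3)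

/-- A matrix from its rows. -/
def m2 (q : ZMod 3 × ZMod 3 × ZMod 3 × ZMod 3) : M2 := !![q.1, q.2.1; q.2.2.1, q.2.2.2]

/-- The rotation flags and the permutation of the places. -/
abbrev Sg := Bool × Bool × Bool × D3

/-- The parity. -/
def even (s : Sg) : Bool := xor (xor s.1 s.2.1) (xor s.2.2.1 (isRot s.2.2.2))

/-- The table of the linear parts. -/
def tab : List (ZMod 3 × ZMod 3 × ZMod 3 × ZMod 3) :=
  [(0, 1, 1, 0), (1, 1, 0, 2), (1, 0, 2, 2), (1, 0, 0, 1), (1, 0, 0, 1), (1, 0, 0, 1),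
   (1, 0, 0, 1), (1, 0, 0, 1), (1, 0, 0, 1), (1, 2, 2, 2), (1, 2, 1, 0), (1, 2, 0, 1),
   (1, 0, 0, 1), (1, 0, 0, 1), (1, 0, 0, 1), (1, 1, 1, 2), (1, 0, 2, 1), (0, 1, 2, 1),
   (1, 0, 0, 2), (0, 1, 1, 1), (1, 1, 1, 0), (1, 0, 0, 1), (1, 0, 0, 1), (1, 0, 0, 1),
   (1, 0, 0, 1), (1, 0, 0, 1), (1, 0, 0, 1), (0, 1, 2, 0), (1, 1, 0, 1), (1, 0, 1, 1),
   (1, 1, 2, 1), (1, 0, 1, 2), (0, 1, 1, 2), (1, 0, 0, 1), (1, 0, 0, 1), (1, 0, 0, 1),
   (1, 2, 1, 1), (1, 2, 2, 0), (1, 2, 0, 2), (1, 0, 0, 1), (1, 0, 0, 1), (1, 0, 0, 1),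
   (1, 0, 0, 1), (1, 0, 0, 1), (1, 0, 0, 1), (1, 0, 0, 1), (0, 1, 2, 2), (1, 1, 2, 0)]

/-- The linear part. -/
def atab (s : Sg) : M2 :=
  m2 (tab.getD ((if s.1 then 24 else 0) + (if s.2.1 then 12 else 0) + (if s.2.2.1 then 6 else 0) +
    (if isRot s.2.2.2 then 3 else 0) + (idx s.2.2.2).val) (1, 0, 0, 1))

/-- The vectors. -/
abbrev V3 := ZMod 3 × ZMod 3 × ZMod 3

/-- The orthogonal frame of trace zero matrices. -/
def fr (v : V3) : M2 := !![v.2.1 + v.2.2, v.1 + v.2.1 - v.2.2; -v.1 + v.2.1 - v.2.2, -v.2.1 - v.2.2]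

/-- The sign of a flag. -/
def eps (b : Bool) : ZMod 3 := if b then 1 else -1

/-- The translation part. -/
def rv : D3 → ZMod 3
  | .r i => i
  | .sr i => -i

/-- A coordinate. -/
def vco (k : Fin 3) (v : V3) : ZMod 3 := ![v.1, v.2.1, v.2.2] k

/-- A flag. -/
def sco (k : Fin 3) (s : Sg) : Bool := ![s.1, s.2.1, s.2.2.1] k

/-- The action of a signed permutation. -/
def actv (s : Sg) (v : V3) : V3 :=
  (eps s.1 * vco (pl s.2.2.2⁻¹ 0) v, eps s.2.1 * vco (pl s.2.2.2⁻¹ 1) v, eps s.2.2.1 * vco (pl s.2.2.2⁻¹ 2) v)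

/-- The product of signed permutations. -/
def smul' (s s' : Sg) : Sg :=
  (s.1 == sco (pl s.2.2.2⁻¹ 0) s', s.2.1 == sco (pl s.2.2.2⁻¹ 1) s', s.2.2.1 == sco (pl s.2.2.2⁻¹ 2) s',
    s.2.2.2 * s'.2.2.2)

theorem atab_mul : ∀ s : Sg, even s = false → ∀ s' : Sg, even s' = false →
    atab (smul' s s') = atab s * atab s' ∨ atab (smul' s s') = -(atab s * atab s') := by decide +kernel

theorem atab_conj : ∀ s : Sg, even s = false → ∀ v : V3, atab s * fr v = fr (actv s v) * atab s := by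
  decide +kernel

theorem atab_det : ∀ s : Sg, even s = false → (atab s).det ≠ 0 := by decide +kernel

theorem fr_add (u v : V3) : fr (u + v) = fr u + fr v := by
  ext i j
  fin_cases i <;> fin_cases j <;> simp [fr] <;> ring

theorem isRot_mul : ∀ a b : D3, isRot (a * b) = (isRot a == isRot b) ∧ rv (a * b) = rv a + eps (isRot a) * rv b := by
  decide +kernel

/-- The signed permutation of an element. -/
def sgOf (m : M648) : Sg := (isRot (tt 0 m), isRot (tt 1 m), isRot (tt 2 m), pp m)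

/-- The translation of an element. -/
def vOf (m : M648) : V3 := (rv (tt 0 m), rv (tt 1 m), rv (tt 2 m))

theorem sgOf_even : ∀ m : M648, even (sgOf m) = false := by decide +kernel

theorem data_surj : ∀ s : Sg, even s = false → ∀ v : V3, ∃ m : M648, sgOf m = s ∧ vOf m = v := by
  have h : ∀ s : Sg, even s = false → ∀ v : V3,
      let t : Bool → ZMod 3 → D3 := fun b r => if b then .r r else .sr (-r)
      let m := mkM (t s.1 v.1, t s.2.1 v.2.1, t s.2.2.1 v.2.2) s.2.2.2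
      sgOf m = s ∧ vOf m = v := by decide +kernel
  exact fun s hs v => ⟨_, h s hs v⟩

theorem tt_mul (g h : M648) (k : Fin 3) : tt k (g * h) = tt k g * tt (pl (pp g)⁻¹ k) h := by
  simp only [tt, pp, Subgroup.coe_mul, mul_t, map_mul, co_perm]

theorem sgOf_mul (g h : M648) : sgOf (g * h) = smul' (sgOf g) (sgOf h) := by
  have e : ∀ k : Fin 3, isRot (tt k (g * h)) = (isRot (tt k g) == sco (pl (pp g)⁻¹ k) (sgOf h)) := by
    intro k
    rw [tt_mul, (isRot_mul _ _).1]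
    generalize pl (pp g)⁻¹ k = j
    fin_cases j <;> rfl
  exact Prod.ext (e 0) (Prod.ext (e 1) (Prod.ext (e 2) rfl))

theorem vOf_mul (g h : M648) : vOf (g * h) = vOf g + actv (sgOf g) (vOf h) := by
  have e : ∀ k : Fin 3, rv (tt k (g * h)) = rv (tt k g) + eps (isRot (tt k g)) * vco (pl (pp g)⁻¹ k) (vOf h) := by
    intro k
    rw [tt_mul, (isRot_mul _ _).2]
    congr 2
    generalize pl (pp g)⁻¹ k = j
    fin_cases j <;> rfl
  exact Prod.ext (e 0) (Prod.ext (e 1) (e 2))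

theorem atab_cover : ∀ A : M2, A.det ≠ 0 → ∃ s : Sg, even s = false ∧ (A = atab s ∨ A = -atab s) := by
  decide +kernel

theorem frame_cover : ∀ Y : M2, ∃ v : V3, ∃ k : Fin 3, Y = fr v + ((k : ℕ) : ZMod 3) • (1 : M2) := by
  decide +kernel

theorem atab_one : atab (sgOf 1) = 1 := by decide +kernel

theorem kernel_data : ∀ m : M648, (atab (sgOf m) = 1 ∨ atab (sgOf m) = -1) → fr (vOf m) = 0 → m = 1 := by
  decide +kernel

theorem not_scalar : ∀ v : V3, fr v ≠ 1 ∧ fr v ≠ 2 • (1 : M2) := by decide +kernel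

theorem ne_rank : ∀ m : M648, XB.NE m → atab (sgOf m) = 1 ∧ ∃ k : Fin 3, ∃ u u' w w' : Fin 2 → ZMod 3,
    Matrix.mulVec (fr (vOf m) + ((k : ℕ) : ZMod 3) • (1 : M2)) u = w ∧
    Matrix.mulVec (fr (vOf m) + ((k : ℕ) : ZMod 3) • (1 : M2)) u' = 0 ∧
    w 0 * w' 1 - w 1 * w' 0 ≠ 0 ∧ u 0 * u' 1 - u 1 * u' 0 ≠ 0 := by
  decide +kernel

end Cfsg.Agent.Spor.PSLFourThree.BModel
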